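import Groth.Agent.MilnorK.K535.KZeroDev
import Mathlib.Data.Nat.Prime.Factorial

/-!
# The obstruction in `K_0(Coh_{≤ n-2})` is killed by an integer prime to `p`

Assembly of `KZeroDev.prod_smul_eq_zero` for a scheme with a nonnegative dimension function:
if for every `i < n - 2` some integer prime to `p` kills, up to rational equivalence, the
`i`-dimensional cycles of the elements of `K_0(Coh_{≤ i})` vanishing in `K_0(Coh X)`, then some
integer prime to `p` kills all elements of `K_0(Coh_{≤ n-2})` with zero cycle vanishing in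
`K_0(Coh X)`.
-/

set_option autoImplicit false

universe u

open CategoryTheory CategoryTheory.Limits AlgebraicGeometry

namespace K535.ObstrGlue

open K287.HO K535.KZeroDev

variable {X : Scheme.{u}} {δ : X → ℤ}

theorem exists_of_nat (hX : Cyc.IsSetup X δ) (hδ : ∀ x, 0 ≤ δ x) (p : ℕ) (k : ℕ)
    (h : ∀ i : ℕ, i < k → ∃ N : ℕ, N.Coprime p ∧ ChowTors hX i N) :
    ∃ N : ℕ, N.Coprime p ∧ ∀ z : KZero.K0sub (Cyc.CohLe δ (k : ℤ)), nm δ k z = 0 →
      cyc hX k z = 0 → N • z = 0 := by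
  choose! N hN hN' using h
  refine ⟨∏ i ∈ Finset.range k, N i, Nat.Coprime.prod_left fun i hi => hN i (Finset.mem_range.1 hi),
    fun z hz hz' => prod_smul_eq_zero hX hδ N k hN' z hz hz'⟩

theorem exists_of_int (hX : Cyc.IsSetup X δ) (hδ : ∀ x, 0 ≤ δ x) (p : ℕ) (k : ℤ)
    (h : ∀ i : ℕ, (i : ℤ) < k → ∃ N : ℕ, N.Coprime p ∧ ChowTors hX i N) :
    ∃ N : ℕ, N.Coprime p ∧ ∀ z : KZero.K0sub (Cyc.CohLe δ k), nm δ k z = 0 →
      cyc hX k z = 0 → N • z = 0 := by
  by_cases hk : 0 ≤ k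
  · obtain ⟨m, rfl⟩ := Int.eq_ofNat_of_zero_le hk
    exact exists_of_nat hX hδ p m fun i hi => h i (by exact_mod_cast hi)
  · refine ⟨1, Nat.coprime_one_left p, fun z _ _ => ?_⟩
    rw [eq_zero_of_lt (fun x => lt_of_lt_of_le (not_le.1 hk) (hδ x)) z, smul_zero]

/-- Factorials of numbers smaller than the prime `p` are prime to `p`. -/
theorem coprime_factorial {p m : ℕ} (hp : p.Prime) (h : m < p) : (Nat.factorial m).Coprime p :=
  (Nat.Prime.coprime_factorial_of_lt hp h).symm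

/-- The final form: `n + 1` prime, the cycles of dimension `i` are killed by `(n - i)!`. -/
theorem exists_of_factorial (hX : Cyc.IsSetup X δ) (hδ : ∀ x, 0 ≤ δ x) {n : ℕ}
    (hn : (n + 1).Prime) (h : ∀ i : ℕ, i < n → ChowTors hX i (Nat.factorial (n - i))) :
    ∃ N : ℕ, N.Coprime (n + 1) ∧ ∀ z : KZero.K0sub (Cyc.CohLe δ ((n : ℤ) - 2)),
      nm δ ((n : ℤ) - 2) z = 0 → cyc hX ((n : ℤ) - 2) z = 0 → N • z = 0 :=
  exists_of_int hX hδ (n + 1) ((n : ℤ) - 2) fun i hi =>
    ⟨_, coprime_factorial hn (by omega), h i (by omega)⟩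

end K535.ObstrGlue
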