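import Groth.Agent.MilnorK.K535.ObstrGlue
import Groth.Agent.MilnorK.K30.GeoPlan

/-!
# The target `K30.Obstr` from the torsion statement for cycles
-/

set_option autoImplicit false

universe u

open CategoryTheory CategoryTheory.Limits AlgebraicGeometry

namespace K535.ObstrXY

open K426.XDef K287.HO

variable {n : ℕ} [hp : Fact (n + 1).Prime] (Y : K58.Kum.{u} (n + 1)) (b : Y.kˣ)

omit hp in
theorem delta_nonneg {S X' : Scheme.{u}} {f : X' ⟶ S} {δ : X' → ℤ}
    (hδ : Cyc.DeltaCompat f δ (fun _ => 0)) (x : X') : 0 ≤ δ x := by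
  obtain ⟨m, -, h⟩ := hδ x
  dsimp only at h
  omega

/-- `K30.Obstr` if the `i`-dimensional cycles of the elements of `K_0(Coh_{≤ i})` vanishing in
`K_0(Coh X)` are killed by `(n - i)!` up to rational equivalence, `i < n`. -/
theorem obstr_of (h : ∀ (δ : X Y b → ℤ) (hX : Cyc.IsSetup (X Y b) δ)
    (_ : Cyc.DeltaCompat (str Y b) δ (fun _ => 0)) (i : ℕ), i < n →
      ChowTors hX i (Nat.factorial (n - i))) : K30.Obstr Y b := fun δ hX hδ =>
  K535.ObstrGlue.exists_of_factorial hX (delta_nonneg hδ) hp.out (h δ hX hδ)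

/-- The variant with integers prime to `n + 1`. -/
theorem obstr_of_coprime (h : ∀ (δ : X Y b → ℤ) (hX : Cyc.IsSetup (X Y b) δ)
    (_ : Cyc.DeltaCompat (str Y b) δ (fun _ => 0)) (i : ℕ), (i : ℤ) < (n : ℤ) - 2 →
      ∃ N : ℕ, N.Coprime (n + 1) ∧ ChowTors hX i N) : K30.Obstr Y b := fun δ hX hδ =>
  K535.ObstrGlue.exists_of_int hX (delta_nonneg hδ) (n + 1) ((n : ℤ) - 2) (h δ hX hδ)

end K535.ObstrXY
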